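import Groth.Agent.Misc9.BiratRadicial
import Mathlib.RingTheory.LocalRing.Module
import Mathlib.RingTheory.Unramified.Field
import Mathlib.AlgebraicGeometry.Morphisms.Finite
import Mathlib.AlgebraicGeometry.Morphisms.FormallyUnramified

/-! Finite unramified morphisms with a one-point fibre. -/

set_option autoImplicit false
universe u
open AlgebraicGeometry CategoryTheory TensorProduct

namespace Groth.Agent.UnrOnePt

theorem exists_smul_mem_range {A B : Type u} [CommRing A] [CommRing B] [Algebra A B] [Module.Finite A B]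
    [Algebra.FormallyUnramified A B] (p : PrimeSpectrum A) (q : PrimeSpectrum B)
    (huniq : ∀ q' : PrimeSpectrum B, PrimeSpectrum.comap (algebraMap A B) q' = p → q' = q)
    (hfrac : ∀ b : B, ∃ s a, s ∉ p.asIdeal ∧ algebraMap A B s * b - algebraMap A B a ∈ q.asIdeal) :
    ∃ t ∉ p.asIdeal, ∀ b : B, ∃ a, algebraMap A B t * b = algebraMap A B a := by
  let κ := p.asIdeal.ResidueField
  let F := κ ⊗[A] B
  haveI : Algebra.FormallyUnramified κ F := inferInstance
  haveI : Module.Finite κ F := inferInstance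
  haveI : IsReduced F := Algebra.FormallyUnramified.isReduced_of_field κ F
  have hq : ∀ x ∈ q.asIdeal, (1 : κ) ⊗ₜ[A] x = (0 : F) := fun x hx => by
    refine IsNilpotent.eq_zero ?_
    rw [nilpotent_iff_mem_prime]
    intro P hP
    let i : B →ₐ[A] F := Algebra.TensorProduct.includeRight
    have h : PrimeSpectrum.comap (algebraMap A B) (PrimeSpectrum.comap i.toRingHom ⟨P, hP⟩) = p := by
      refine PrimeSpectrum.ext (Ideal.ext fun a => ?_)
      show i (algebraMap A B a) ∈ P ↔ a ∈ p.asIdeal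
      rw [i.commutes, IsScalarTower.algebraMap_apply A κ F]
      constructor
      · intro h
        by_contra ha
        exact hP.ne_top (P.eq_top_of_isUnit_mem h ((isUnit_iff_ne_zero.2 fun h0 =>
          ha (Ideal.algebraMap_residueField_eq_zero.1 h0)).map (algebraMap κ F)))
      · intro ha
        rw [Ideal.algebraMap_residueField_eq_zero.2 ha, map_zero]
        exact P.zero_mem
    have h2 := huniq _ h
    exact (show x ∈ (PrimeSpectrum.comap i.toRingHom ⟨P, hP⟩).asIdeal from h2.symm ▸ hx)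
  let φ : A →ₗ[A] B := Algebra.linearMap A B
  have hsurj : Function.Surjective (φ.lTensor κ) := by
    intro z
    induction z using TensorProduct.induction_on with
    | zero => exact ⟨0, map_zero _⟩
    | add x y hx hy => obtain ⟨a, rfl⟩ := hx; obtain ⟨b, rfl⟩ := hy; exact ⟨a + b, map_add _ _ _⟩
    | tmul k b =>
      obtain ⟨s, a, hs, hsa⟩ := hfrac b
      have hs0 : algebraMap A κ s ≠ 0 := fun h => hs (Ideal.algebraMap_residueField_eq_zero.1 h)
      refine ⟨(k * algebraMap A κ a * (algebraMap A κ s)⁻¹) ⊗ₜ 1, ?_⟩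
      have h1 : (algebraMap A κ s) ⊗ₜ[A] b = (algebraMap A κ a) ⊗ₜ[A] (1 : B) := by
        have := hq _ hsa
        rw [TensorProduct.tmul_sub, sub_eq_zero] at this
        rw [Algebra.algebraMap_eq_smul_one (A := κ) s, Algebra.algebraMap_eq_smul_one (A := κ) a,
          TensorProduct.smul_tmul, TensorProduct.smul_tmul, ← Algebra.algebraMap_eq_smul_one, Algebra.smul_def]
        exact this
      have h2 := congrArg (fun w => ((k * (algebraMap A κ s)⁻¹) ⊗ₜ[A] (1 : B)) * w) h1
      simp only [Algebra.TensorProduct.tmul_mul_tmul, one_mul] at h2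
      rw [mul_assoc k, inv_mul_cancel₀ hs0, mul_one] at h2
      rw [LinearMap.lTensor_tmul, h2, show φ 1 = (1 : B) from map_one (algebraMap A B), mul_right_comm]
  have hex := lTensor_exact κ (LinearMap.exact_map_mkQ_range φ) (Submodule.mkQ_surjective _)
  haveI : Subsingleton (κ ⊗[A] (B ⧸ LinearMap.range φ)) := by
    refine subsingleton_of_forall_eq 0 fun z => ?_
    obtain ⟨w, rfl⟩ := LinearMap.lTensor_surjective κ (Submodule.mkQ_surjective _) z
    obtain ⟨v, rfl⟩ := hsurj w
    exact hex.apply_apply_eq_zero v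
  have hnot : p ∉ Module.support A (B ⧸ LinearMap.range φ) := by
    rw [Module.mem_support_iff_nontrivial_residueField_tensorProduct, not_nontrivial_iff_subsingleton]
    infer_instance
  rw [Module.support_eq_zeroLocus, PrimeSpectrum.mem_zeroLocus, Set.not_subset] at hnot
  obtain ⟨t, ht, htp⟩ := hnot
  refine ⟨t, htp, fun b => ?_⟩
  have := Module.mem_annihilator.1 ht ((LinearMap.range φ).mkQ b)
  rw [← map_smul, Submodule.mkQ_apply, Submodule.Quotient.mk_eq_zero, Algebra.smul_def] at this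
  obtain ⟨a, ha⟩ := this
  exact ⟨a, ha.symm⟩

theorem exists_isClosedImmersion {X S : Scheme.{u}} (f : X ⟶ S) [IsFinite f] [FormallyUnramified f] (s : S) (x : X)
    (hx : f.base ⁻¹' {s} = {x}) (hκ : Function.Surjective (f.residueFieldMap x)) :
    ∃ U : S.Opens, s ∈ U ∧ IsClosedImmersion (f ∣_ U) := by
  obtain ⟨_, ⟨U, hU, rfl⟩, hsU, -⟩ := S.isBasis_affineOpens.exists_subset_of_mem_open (Set.mem_univ s) isOpen_univ
  have hV : IsAffineOpen (f ⁻¹ᵁ U) := IsAffineOpen.preimage hU f
  let φ := f.appLE U (f ⁻¹ᵁ U) le_rfl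
  letI := φ.hom.toAlgebra
  haveI : Module.Finite Γ(S, U) Γ(X, f ⁻¹ᵁ U) := by
    have := IsFinite.finite_app (f := f) U hU
    rwa [Scheme.Hom.app_eq_appLE] at this
  haveI : Algebra.FormallyUnramified Γ(S, U) Γ(X, f ⁻¹ᵁ U) :=
    HasRingHomProperty.appLE @FormallyUnramified f ‹_› ⟨U, hU⟩ ⟨_, hV⟩ le_rfl
  have hfs : f x = s := (hx.symm ▸ Set.mem_singleton x : x ∈ f.base ⁻¹' {s})
  have hxV : x ∈ f ⁻¹ᵁ U := show f x ∈ U from hfs.symm ▸ hsU
  let q := hV.primeIdealOf ⟨x, hxV⟩
  have hcomm : Spec.map φ ≫ hU.fromSpec = hV.fromSpec ≫ f := hU.SpecMap_appLE_fromSpec f hV le_rfl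
  have hqx : hV.fromSpec q = x := hV.fromSpec_primeIdealOf ⟨x, hxV⟩
  have huniq : ∀ q' : PrimeSpectrum Γ(X, f ⁻¹ᵁ U),
      PrimeSpectrum.comap φ.hom q' = PrimeSpectrum.comap φ.hom q → q' = q := by
    intro q' h
    refine hV.fromSpec.isOpenEmbedding.injective ?_
    have h1 : f (hV.fromSpec q') = s := by
      rw [← Scheme.Hom.comp_apply, ← hcomm, Scheme.Hom.comp_apply,
        show Spec.map φ q' = Spec.map φ q from h, ← Scheme.Hom.comp_apply, hcomm, Scheme.Hom.comp_apply, hqx, hfs]
    rw [hqx]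
    exact (hx ▸ h1 : hV.fromSpec q' ∈ ({x} : Set X))
  have hsurj : Function.Surjective ((Spec.map φ).residueFieldMap q) := by
    have h1 : Function.Surjective ((hV.fromSpec ≫ f).residueFieldMap q) := by
      rw [Scheme.residueFieldMap_comp]
      have hκ' : Function.Surjective (f.residueFieldMap (hV.fromSpec q)) := hqx.symm ▸ hκ
      exact (ConcreteCategory.bijective_of_isIso (hV.fromSpec.residueFieldMap q)).2.comp hκ'
    have key : ∀ g, hV.fromSpec ≫ f = g → Function.Surjective (Scheme.Hom.residueFieldMap g q) := by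
      rintro g rfl; exact h1
    have h2 := key _ hcomm.symm
    rw [Scheme.residueFieldMap_comp] at h2
    exact Function.Surjective.of_comp (f := (Spec.map φ).residueFieldMap q) h2
  obtain ⟨t, ht, htr⟩ := exists_smul_mem_range (PrimeSpectrum.comap φ.hom q) q huniq
    fun b => Misc9.BiratRadicial.fraction_of_surjective φ.hom q hsurj b
  let D := S.basicOpen t
  have hD : IsAffineOpen D := hU.basicOpen t
  have hsD : s ∈ D := by
    have h0 : hU.fromSpec (PrimeSpectrum.comap φ.hom q) = s := by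
      show hU.fromSpec (Spec.map φ q) = s
      rw [← Scheme.Hom.comp_apply, hcomm, Scheme.Hom.comp_apply, hqx, hfs]
    rw [← h0]
    show PrimeSpectrum.comap φ.hom q ∈ hU.fromSpec ⁻¹ᵁ D
    rw [hU.fromSpec_preimage_basicOpen]
    exact ht
  refine ⟨D, hsD, ?_⟩
  haveI : IsAffine (D : Scheme.{u}) := hD
  haveI : IsAffine ((f ⁻¹ᵁ D : X.Opens) : Scheme.{u}) := IsAffineOpen.preimage hD f
  refine IsClosedImmersion.of_surjective_of_isAffine _ ?_
  have hD' : f ⁻¹ᵁ D = X.basicOpen (f.app U t) := Scheme.preimage_basicOpen f t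
  have happ : Function.Surjective (f.app D) := by
    intro z
    letI := (X.presheaf.map (homOfLE (f.preimage_mono (S.basicOpen_le t))).op).hom.toAlgebra
    haveI : IsLocalization.Away (f.app U t) Γ(X, f ⁻¹ᵁ D) := hV.isLocalization_of_eq_basicOpen _ (homOfLE _) hD'
    obtain ⟨⟨b, ⟨_, n, rfl⟩⟩, hb⟩ := IsLocalization.surj (Submonoid.powers (f.app U t)) z
    obtain ⟨c, hc⟩ := htr b
    have hφ : ∀ c, algebraMap Γ(S, U) Γ(X, f ⁻¹ᵁ U) c = f.app U c := fun c => by
      show φ c = _
      rw [Scheme.Hom.app_eq_appLE]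
    have hnat : ∀ c, algebraMap Γ(X, f ⁻¹ᵁ U) Γ(X, f ⁻¹ᵁ D) (f.app U c) =
        f.app D (S.presheaf.map (homOfLE (S.basicOpen_le t)).op c) := fun c =>
      (ConcreteCategory.congr_hom (f.naturality (homOfLE (S.basicOpen_le t)).op) c).symm
    have hu0 : IsUnit ((S.presheaf.map (homOfLE (S.basicOpen_le t)).op t) : Γ(S, D)) :=
      RingedSpace.isUnit_res_basicOpen S.toLocallyRingedSpace.toRingedSpace t
    obtain ⟨u, hu⟩ := hu0
    refine ⟨S.presheaf.map (homOfLE (S.basicOpen_le t)).op c * ↑(u ^ (n + 1))⁻¹, ?_⟩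
    rw [map_mul, ← hnat]
    rw [hφ, hφ] at hc
    rw [← hc, map_mul, ← hb]
    simp only [map_pow, hnat]
    have hu' : S.presheaf.map (homOfLE (S.basicOpen_le t)).op t = ↑u := hu.symm
    rw [hu']
    calc f.app D ↑u * (z * f.app D ↑u ^ n) * f.app D ↑(u ^ (n + 1))⁻¹
        = z * f.app D (↑(u ^ (n + 1)) * ↑(u ^ (n + 1))⁻¹) := by rw [map_mul, Units.val_pow_eq_pow_val, map_pow]; ring
      _ = z := by rw [Units.mul_inv, map_one, mul_one]
  rw [Scheme.Hom.appTop, morphismRestrict_app]
  intro z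
  obtain ⟨y, hy⟩ := (ConcreteCategory.bijective_of_isIso
    (X.presheaf.map (eqToHom (image_morphismRestrict_preimage f D ⊤)).op)).2 z
  obtain ⟨w, hw⟩ := ((fun {V : S.Opens} (e : V = D) => show Function.Surjective (f.app V) from e ▸ happ)
    D.ι_image_top) y
  exact ⟨w, (congrArg _ hw).trans hy⟩

end Groth.Agent.UnrOnePt
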